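import Groth.Agent.H26Misc.SigmaLin
import Mathlib.FieldTheory.IsSepClosed
import Mathlib.FieldTheory.PurelyInseparable.Basic
import Mathlib.FieldTheory.IsAlgClosed.AlgebraicClosure

/-!
# Frobenius semilinear endomorphisms over separably closed fields
-/

set_option autoImplicit false

universe u v

open Polynomial

namespace Groth.Agent.H18AS

variable {k : Type u} [Field k] (p : ℕ) [hp : Fact p.Prime] [CharP k p]
  {V : Type v} [AddCommGroup V] [Module k V] [FiniteDimensional k V]

theorem surjective_sub_id [IsSepClosed k] (T : V →+ V) (hT : ∀ (c : k) v, T (c • v) = c ^ p • T v) (y : V) :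
    ∃ v, T v - v = y := by
  classical
  let b := Module.finBasis k V
  let a := fun i j => b.repr (T (b j)) i
  let K := AlgebraicClosure k
  haveI : CharP K p := charP_of_injective_algebraMap (algebraMap k K).injective p
  let T' : (Fin (Module.finrank k V) → K) →+ (Fin (Module.finrank k V) → K) :=
    { toFun := fun x i => ∑ j, algebraMap k K (a i j) * x j ^ p
      map_zero' := funext fun i => by simp [zero_pow hp.out.ne_zero]
      map_add' := fun x x' => funext fun i => by
        simp only [Pi.add_apply, ← Finset.sum_add_distrib, add_pow_char, mul_add] }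
  have hT' : ∀ (c : K) (x : Fin (Module.finrank k V) → K), T' (c • x) = c ^ p • T' x := fun c x => funext fun i => by
    show (∑ j, algebraMap k K (a i j) * (c * x j) ^ p) = c ^ p * ∑ j, algebraMap k K (a i j) * x j ^ p
    rw [Finset.mul_sum]
    exact Finset.sum_congr rfl fun j _ => by rw [mul_pow, mul_left_comm]
  obtain ⟨x, hx⟩ := H26SigmaLin.surjective_frob p T' hT' (fun i => algebraMap k K (b.repr y i))
  have hxi : ∀ i, x i = (∑ j, algebraMap k K (a i j) * x j ^ p) - algebraMap k K (b.repr y i) := fun i => by
    have h : (∑ j, algebraMap k K (a i j) * x j ^ p) - x i = algebraMap k K (b.repr y i) := congrFun hx i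
    rw [← h, sub_sub_cancel]
  have hmem : ∀ e : ℕ, (∀ i, x i ^ p ^ e ∈ (algebraMap k K).range) → ∀ i, x i ∈ (algebraMap k K).range := by
    intro e
    induction e with
    | zero => exact fun h i => by simpa using h i
    | succ e ih =>
      refine fun h => ih fun i => ?_
      rw [hxi i, sub_pow_char_pow, sum_pow_char_pow, ← map_pow]
      refine Subring.sub_mem _ (Subring.sum_mem _ fun j _ => ?_) ⟨_, rfl⟩
      rw [mul_pow, ← map_pow, ← pow_mul, ← pow_succ']
      exact Subring.mul_mem _ ⟨_, rfl⟩ (h j)
  haveI : ExpChar k p := ExpChar.prime hp.out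
  haveI : IsPurelyInseparable k K := inferInstance
  choose e he using fun i => IsPurelyInseparable.pow_mem k p (x i)
  have hr := hmem (Finset.univ.sup e) fun i => by
    obtain ⟨d, hd⟩ := Nat.exists_eq_add_of_le (Finset.le_sup (f := e) (Finset.mem_univ i))
    rw [hd, pow_add, pow_mul]
    exact Subring.pow_mem _ (he i) _
  choose c hc using hr
  refine ⟨∑ i, c i • b i, b.repr.injective (Finsupp.ext fun i => (algebraMap k K).injective ?_)⟩
  have hTc : b.repr (T (∑ j, c j • b j)) i = ∑ j, c j ^ p * a i j := by
    simp only [map_sum, hT, map_smul, Finsupp.finsetSum_apply, Finsupp.smul_apply, smul_eq_mul, a]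
  rw [map_sub, Finsupp.sub_apply, hTc, b.repr_sum_self, map_sub, map_sum, hc]
  have h : (∑ j, algebraMap k K (a i j) * x j ^ p) - x i = algebraMap k K (b.repr y i) := congrFun hx i
  rw [← h]
  exact congrArg (· - x i) (Finset.sum_congr rfl fun j _ => by rw [map_mul, map_pow, hc, mul_comm])

theorem natCard_fixed_le (T : V →+ V) (hT : ∀ (c : k) v, T (c • v) = c ^ p • T v) :
    {v : V | T v = v}.Finite ∧ Nat.card {v : V | T v = v} ≤ p ^ Module.finrank k V := by
  classical
  let F : Set k := {c : k | c ^ p = c}
  let P : k[X] := X ^ p - X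
  have hdeg : P.natDegree = p := FiniteField.X_pow_card_sub_X_natDegree_eq k hp.out.one_lt
  have hP : P ≠ 0 := fun h => by rw [h, natDegree_zero] at hdeg; exact hp.out.ne_zero hdeg.symm
  have hsub : F ⊆ ↑P.roots.toFinset := fun c (hc : c ^ p = c) => by
    simp [mem_roots hP, P, hc]
  haveI : Fintype F := (P.roots.toFinset.finite_toSet.subset hsub).fintype
  have hF : Fintype.card F ≤ p := by
    calc Fintype.card F ≤ P.roots.toFinset.card := by
            rw [← Set.toFinset_card]
            exact Finset.card_le_card fun c hc => hsub (Set.mem_toFinset.1 hc)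
      _ ≤ P.roots.card := Multiset.toFinset_card_le _
      _ ≤ P.natDegree := card_roots' P
      _ = p := hdeg
  obtain ⟨s, hsF, hspan, hind⟩ := exists_linearIndependent k {v : V | T v = v}
  haveI : Fintype s := hind.setFinite.fintype
  have hs : Fintype.card s ≤ Module.finrank k V := hind.fintype_card_le_finrank
  let Φ : (s → F) → V := fun f => ∑ i, (f i : k) • (i : V)
  have hsurj : {v : V | T v = v} ⊆ Set.range Φ := by
    intro w hw
    have hmem : w ∈ Submodule.span k (Set.range fun i : s => (i : V)) := by
      rw [Subtype.range_coe, hspan]; exact Submodule.subset_span hw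
    obtain ⟨c, hc⟩ := (Submodule.mem_span_range_iff_exists_fun k).1 hmem
    have hTw : ∑ i, c i ^ p • (i : V) = ∑ i, c i • (i : V) := by
      rw [hc]
      conv_rhs => rw [← hw, ← hc, map_sum]
      exact Finset.sum_congr rfl fun i _ => by rw [hT, hsF i.2]
    have h0 := Fintype.linearIndependent_iff.1 hind (fun i => c i ^ p - c i)
      (by simp only [sub_smul, Finset.sum_sub_distrib, hTw, sub_self])
    exact ⟨fun i => ⟨c i, sub_eq_zero.1 (h0 i)⟩, hc⟩
  haveI : Finite (Set.range Φ) := (Set.finite_range Φ).to_subtype
  refine ⟨(Set.finite_range Φ).subset hsurj, ?_⟩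
  calc Nat.card {v : V | T v = v} ≤ Nat.card (Set.range Φ) := Nat.card_mono (Set.finite_range Φ) hsurj
    _ ≤ Nat.card (s → F) := Finite.card_range_le Φ
    _ = Fintype.card F ^ Fintype.card s := by simp [Nat.card_eq_fintype_card]
    _ ≤ p ^ Fintype.card s := Nat.pow_le_pow_left hF _
    _ ≤ p ^ Module.finrank k V := Nat.pow_le_pow_right hp.out.pos hs

end Groth.Agent.H18AS
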