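import Groth.Agent.H18AS.Linear
import Groth.Agent.H18AS.Semilinear
import Groth.Agent.H9Et.ArtinSchreier
import Groth.Agent.H18Et.PushClosed
import Groth.Agent.S0002
import Groth.Prelude.Def_W4c5etcohweilstudentAS

/-!
# Frobenius on the cohomology of the additive group of a proper scheme
-/

set_option autoImplicit false
set_option linter.style.haveILetI false
set_option backward.isDefEq.respectTransparency false
set_option backward.isDefEq.respectTransparency.types false

universe u

open CategoryTheory Opposite Limits AlgebraicGeometry CategoryTheory.Abelian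
open W4c5etcohweilstudent

noncomputable section

namespace Groth.Agent.H18AS

variable {X : Scheme.{u}} (p : ℕ) [hp : Fact p.Prime] (h0 : (p : Γ(X, ⊤)) = 0)

theorem endo_app (U : X.Etale) (x : Γ(U.left, ⊤)) :
    (artinSchreierEndo X p hp.out h0).hom.app (op U) (ULift.up x) = ULift.up (x ^ p - x) := rfl

/-- Frobenius as an endomorphism of the additive group. -/
def frobGa : EtCoh.Ga X ⟶ EtCoh.Ga X := artinSchreierEndo X p hp.out h0 + 𝟙 _

theorem frobGa_app (U : X.Etale) (x : Γ(U.left, ⊤)) :
    (frobGa p h0).hom.app (op U) (ULift.up x) = ULift.up (x ^ p) :=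
  ULift.ext _ _ (sub_add_cancel (x ^ p) x)

theorem gaScal_frobGa (r : Γ(X, ⊤)) : gaScal X r ≫ frobGa p h0 = frobGa p h0 ≫ gaScal X (r ^ p) := by
  ext U x
  obtain ⟨x⟩ := x
  let x' : Γ(U.unop.left, ⊤) := x
  refine ULift.ext _ _ ?_
  show ((fn (T := U.unop.left) U.unop.hom r * x') ^ p - fn (T := U.unop.left) U.unop.hom r * x') +
      fn (T := U.unop.left) U.unop.hom r * x' =
    fn (T := U.unop.left) U.unop.hom (r ^ p) * (x' ^ p - x' + x')
  rw [sub_add_cancel, sub_add_cancel, mul_pow]
  exact congrArg (· * _) (map_pow U.unop.hom.appTop.hom r p).symm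

/-- The `k`-linear and Frobenius-semilinear structure on `H^q(X, 𝔾_a)`. -/
theorem exists_semilinear {k : Type u} [Field k] [CharP k p] [X.Over (Spec (CommRingCat.of k))] (q : ℕ) :
    ∃ (e : EtCoh.H X (EtCoh.Ga X) q ≃+ Coh.HH X (Coh.structureModule X) q)
      (T : Coh.HH X (Coh.structureModule X) q →+ Coh.HH X (Coh.structureModule X) q),
      (∀ (c : k) v, T (c • v) = c ^ p • T v) ∧
      ∀ x, e (Sheaf.H.map (artinSchreierEndo X p hp.out h0) q x) = T (e x) - e x := by
  obtain ⟨e, he⟩ := exists_linear_equiv X q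
  refine ⟨e, (e.toAddMonoidHom.comp (Sheaf.H.map (frobGa p h0) q)).comp e.symm.toAddMonoidHom, fun c v => ?_, fun x => ?_⟩
  · let r : Γ(X, ⊤) := Coh.toGlobal (X ↘ Spec (CommRingCat.of k)) c
    obtain ⟨x, rfl⟩ := e.surjective v
    have hc : c • e x = e (Sheaf.H.map (gaScal X r) q x) := (he r x).symm
    have hc' : ∀ y, c ^ p • e y = e (Sheaf.H.map (gaScal X (r ^ p)) q y) := fun y => by
      refine Eq.trans ?_ (he (r ^ p) y).symm
      show Sheaf.H.map (Coh.smulAb (Coh.structureModule X) (Coh.toGlobal (X ↘ Spec (CommRingCat.of k)) (c ^ p))) q (e y) = _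
      rw [map_pow]
    show e (Sheaf.H.map (frobGa p h0) q (e.symm (c • e x))) = c ^ p • e (Sheaf.H.map (frobGa p h0) q (e.symm (e x)))
    rw [hc, e.symm_apply_apply, e.symm_apply_apply, hc', hmap_comm (gaScal_frobGa p h0 r) x]
  · show _ = e (Sheaf.H.map (frobGa p h0) q (e.symm (e x))) - e x
    rw [e.symm_apply_apply, ← map_sub]
    refine congrArg e ?_
    rw [frobGa, Sheaf.H.map_add_apply, Sheaf.H.map_id_apply, add_sub_cancel_right]

theorem finiteDimensional_HH {k : Type u} [Field k] [X.Over (Spec (CommRingCat.of k))]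
    [IsProper (X ↘ Spec (CommRingCat.of k))] (q : ℕ) :
    Module.Finite k (Coh.HH X (Coh.structureModule X) q) := by
  haveI : IsLocallyNoetherian X := LocallyOfFiniteType.isLocallyNoetherian (X ↘ Spec (CommRingCat.of k))
  exact S0002.result k X _ (H10Coh.isCoh_structureModule' X) q

theorem natCast_eq_zero {k : Type u} [Field k] [CharP k p] (f : X ⟶ Spec (CommRingCat.of k)) :
    (p : Γ(X, ⊤)) = 0 := by
  have h := congrArg (Coh.toGlobal f) (CharP.cast_eq_zero k p)
  rw [map_natCast, map_zero] at h
  exact h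

include h0 in
/-- Artin–Schreier is surjective on finite-dimensional cohomology over a separably closed field. -/
theorem surjective_map_endo_of_finite {k : Type u} [Field k] [IsSepClosed k] [CharP k p]
    [X.Over (Spec (CommRingCat.of k))] (q : ℕ) [Module.Finite k (Coh.HH X (Coh.structureModule X) q)] :
    Function.Surjective (Sheaf.H.map (artinSchreierEndo X p hp.out h0) q) := by
  intro y
  obtain ⟨e, T, hT, hx⟩ := exists_semilinear p h0 (k := k) q
  obtain ⟨v, hv⟩ := surjective_sub_id p T hT (e y)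
  refine ⟨e.symm v, e.injective ?_⟩
  rw [hx, e.apply_symm_apply]
  exact hv

include h0 in
/-- Artin–Schreier is surjective on the cohomology of a proper scheme over a separably closed field. -/
theorem surjective_map_endo {k : Type u} [Field k] [IsSepClosed k] [CharP k p] [X.Over (Spec (CommRingCat.of k))]
    [IsProper (X ↘ Spec (CommRingCat.of k))] (q : ℕ) :
    Function.Surjective (Sheaf.H.map (artinSchreierEndo X p hp.out h0) q) :=
  haveI := finiteDimensional_HH (X := X) (k := k) q
  surjective_map_endo_of_finite p h0 (k := k) q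

theorem subsingleton_H_of_isEmpty [IsEmpty X] (F : EtCoh.Ab X) (q : ℕ) : Subsingleton (EtCoh.H X F q) := by
  haveI : IsIso (0 : F ⟶ F) := H18Et.isIso_of_stalk _ fun x => isEmptyElim x
  have hid : 𝟙 F = 0 := by rw [← IsIso.inv_hom_id (0 : F ⟶ F), comp_zero]
  refine subsingleton_of_forall_eq 0 fun x => ?_
  rw [← Sheaf.H.map_id_apply x, hid]
  have h := Sheaf.H.map_add_apply (0 : F ⟶ F) 0 x
  rw [add_zero] at h
  exact add_eq_left.mp h.symm

section Seq

variable [CharP Γ(X, ⊤) p]

theorem wp_eq : H9Et.AS.wp X p = artinSchreierEndo X p hp.out h0 := by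
  ext U x
  rfl

include h0 in
theorem injective_map_toGa_of_finite {k : Type u} [Field k] [IsSepClosed k] [CharP k p]
    [X.Over (Spec (CommRingCat.of k))] (i : ℕ) (hfin : ∀ j, j + 1 = i → Module.Finite k (Coh.HH X (Coh.structureModule X) j)) :
    Function.Injective (Sheaf.H.map (H9Et.AS.toGa X p) i) := by
  refine (injective_iff_map_eq_zero _).2 fun x hx => ?_
  have hS := H9Et.AS.shortExact_seq X p
  cases i with
  | zero =>
    obtain ⟨φ, rfl⟩ := (Ext.mk₀_bijective _ _).surjective x
    rw [Sheaf.H.map_apply, Ext.mk₀_comp_mk₀, Ext.mk₀_eq_zero_iff] at hx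
    haveI : Mono (H9Et.AS.toGa X p) := hS.mono_f
    have h1 : φ = 0 := (cancel_mono (H9Et.AS.toGa X p)).1 (hx.trans zero_comp.symm)
    rw [h1, Ext.mk₀_zero]
  | succ i =>
    haveI := hfin i rfl
    obtain ⟨y, rfl⟩ := Ext.covariant_sequence_exact₁ _ hS x hx rfl
    obtain ⟨z, rfl⟩ := surjective_map_endo_of_finite p h0 (k := k) i y
    rw [← wp_eq p h0]
    exact (Ext.comp_assoc_of_second_deg_zero _ _ _ _).trans (by rw [hS.comp_extClass, Ext.comp_zero])

include h0 in
theorem injective_map_toGa {k : Type u} [Field k] [IsSepClosed k] [CharP k p] [X.Over (Spec (CommRingCat.of k))]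
    [IsProper (X ↘ Spec (CommRingCat.of k))] (i : ℕ) :
    Function.Injective (Sheaf.H.map (H9Et.AS.toGa X p) i) :=
  injective_map_toGa_of_finite p h0 (k := k) i fun j _ => finiteDimensional_HH (X := X) (k := k) j

end Seq

end Groth.Agent.H18AS
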