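import Groth.Agent.H18AS.NaturalShift
import Groth.Agent.H9Et.GaZariski
import Groth.Prelude.Def_Coh

/-!
# Étale cohomology of the additive group as a module over global functions
-/

set_option autoImplicit false
set_option linter.style.haveILetI false
set_option backward.isDefEq.respectTransparency false
set_option backward.isDefEq.respectTransparency.types false

universe u

open CategoryTheory Opposite Limits AlgebraicGeometry CategoryTheory.Abelian TopologicalSpace
open Groth.Agent.H02CA.Adq Groth.Agent.H9Et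

noncomputable section

namespace Groth.Agent.H18AS

variable (S : Scheme.{u})

variable {S} in
/-- A global function restricted to a scheme over `S`. -/
def fn {T : Scheme.{u}} (t : T ⟶ S) (r : Γ(S, ⊤)) : Γ(T, ⊤) := t.appTop.hom r

variable {S} in
theorem appTop_fn {T T' : Scheme.{u}} (t : T ⟶ S) (g : T' ⟶ T) (t' : T' ⟶ S) (h : g ≫ t = t') (r : Γ(S, ⊤)) :
    g.appTop.hom (fn t r) = fn t' r := by
  subst h
  simp [fn, Scheme.Hom.comp_appTop]

/-- Multiplication by a function on the small site. -/
def gaScal (r : Γ(S, ⊤)) : EtCoh.Ga S ⟶ EtCoh.Ga S :=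
  ⟨{ app := fun U => AddCommGrpCat.uliftFunctor.{u + 1}.map
      (AddCommGrpCat.ofHom (AddMonoidHom.mulLeft (fn (T := U.unop.left) U.unop.hom r)))
     naturality := fun U V g => by
      ext ⟨x⟩
      let x' : Γ(U.unop.left, ⊤) := x
      refine congrArg ULift.up ?_
      show fn (T := V.unop.left) V.unop.hom r * g.unop.left.appTop.hom x' = g.unop.left.appTop.hom (fn (T := U.unop.left) U.unop.hom r * x')
      rw [map_mul]
      exact congrArg (· * _) (appTop_fn _ _ _ (Over.w g.unop.hom) r).symm }⟩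

theorem gaScal_app (r : Γ(S, ⊤)) (U : S.Etale) (x : Γ(U.left, ⊤)) :
    (gaScal S r).hom.app (op U) (ULift.up x) = ULift.up (fn (T := U.left) U.hom r * x) := rfl

open MonObj in
variable {S} in
/-- Multiplication by a function on points. -/
def gaMulHom (T : Over S) (r : Γ(S, ⊤)) : (T ⟶ Red.Ga S) →* (T ⟶ Red.Ga S) :=
  MonoidHom.mk' (fun x => (H27Witt.GaCoord.gaFn_surjective (fn (T := T.left) T.hom r * Red.gaFn x)).choose) fun x y => by
    refine H27Witt.GaCoord.gaFn_injective ?_
    refine (H27Witt.GaCoord.gaFn_surjective _).choose_spec.trans ?_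
    rw [H27Witt.GaCoord.gaFn_mul, H27Witt.GaCoord.gaFn_mul, mul_add]
    exact congrArg₂ (· + ·) (H27Witt.GaCoord.gaFn_surjective _).choose_spec.symm
      (H27Witt.GaCoord.gaFn_surjective _).choose_spec.symm

open MonObj in
variable {S} in
theorem gaFn_gaMulHom (T : Over S) (r : Γ(S, ⊤)) (x : T ⟶ Red.Ga S) :
    Red.gaFn (gaMulHom T r x) = fn (T := T.left) T.hom r * Red.gaFn x :=
  (H27Witt.GaCoord.gaFn_surjective _).choose_spec

open MonObj in
/-- Multiplication by a function on the big site. -/
def gaMul (r : Γ(S, ⊤)) : CGrpSh2.Ga KE S ⟶ CGrpSh2.Ga KE S :=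
  ⟨{ app := fun T => AddCommGrpCat.ofHom
      { toFun := fun x => ULift.up (Additive.ofMul (gaMulHom T.unop r x.down.toMul))
        map_zero' := ULift.ext _ _ (congrArg Additive.ofMul (map_one (gaMulHom T.unop r)))
        map_add' := fun x y => ULift.ext _ _ (congrArg Additive.ofMul (map_mul (gaMulHom T.unop r) x.down.toMul y.down.toMul)) }
     naturality := fun T T' g => AddCommGrpCat.ext fun x => ULift.ext _ _ (by
      show Additive.ofMul (gaMulHom T'.unop r (g.unop ≫ x.down.toMul)) = Additive.ofMul (g.unop ≫ gaMulHom T.unop r x.down.toMul)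
      refine congrArg Additive.ofMul (H27Witt.GaCoord.gaFn_injective ?_)
      rw [gaFn_gaMulHom, H27Witt.GaCoord.gaFn_comp, H27Witt.GaCoord.gaFn_comp, gaFn_gaMulHom, map_mul]
      exact congrArg (· * _) (appTop_fn _ _ _ (Over.w g.unop) r).symm) }⟩

theorem resEt_gaMul (r : Γ(S, ⊤)) :
    (BigSite.resEt KE S).map (gaMul S r) ≫ (resGaIso (S := S)).hom = (resGaIso (S := S)).hom ≫ gaScal S r := by
  ext U x
  exact ULift.ext _ _ (gaFn_gaMulHom _ r _)

theorem resZar_gaScal (r : Γ(S, ⊤)) :
    (EtZar.resZar S).map (gaScal S r) ≫ (resGaZarIso S).hom =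
      (resGaZarIso S).hom ≫ (ZarUlift.lift S).map (Coh.smulAb (Coh.structureModule S) r) := by
  ext U x
  refine ULift.ext _ _ ?_
  let x' : Γ(Scheme.Opens.toScheme (X := S) U.unop, ⊤) := x.down
  show (Scheme.Opens.topIso (X := S) U.unop).hom (fn (T := Scheme.Opens.toScheme (X := S) U.unop) (Scheme.Opens.ι (X := S) U.unop) r * x') =
    (S.presheaf.map (homOfLE (le_top (a := U.unop))).op).hom r * (Scheme.Opens.topIso (X := S) U.unop).hom x'
  rw [map_mul]
  refine congrArg (· * _) ?_
  simp only [fn, Scheme.Opens.topIso, Functor.mapIso_hom, ← ConcreteCategory.comp_apply, Scheme.Opens.ι_appTop,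
    ← Functor.map_comp]
  exact congrArg (fun k => (S.presheaf.map k) r) (Subsingleton.elim _ _)

theorem hmap_comm {C : Type*} [Category C] {J : GrothendieckTopology C} [HasSheafify J AddCommGrpCat.{u + 1}]
    [HasExt.{u + 1} (Sheaf J AddCommGrpCat.{u + 1})] {A B B' D : Sheaf J AddCommGrpCat.{u + 1}}
    {f : A ⟶ B} {g : B ⟶ D} {f' : A ⟶ B'} {g' : B' ⟶ D} (h : f ≫ g = f' ≫ g') {n : ℕ} (x : Sheaf.H A n) :
    Sheaf.H.map g n (Sheaf.H.map f n x) = Sheaf.H.map g' n (Sheaf.H.map f' n x) := by
  rw [← Sheaf.H.map_comp_apply, ← Sheaf.H.map_comp_apply, h]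

/-- Small étale and Zariski cohomology of the structure sheaf agree linearly over global functions. -/
theorem exists_linear_equiv (q : ℕ) :
    ∃ e : EtCoh.H S (EtCoh.Ga S) q ≃+ Coh.HH S (Coh.structureModule S) q,
      ∀ (r : Γ(S, ⊤)) (x), e (Sheaf.H.map (gaScal S r) q x) = Sheaf.H.map (Coh.smulAb (Coh.structureModule S) r) q (e x) := by
  obtain ⟨e₁, h₁⟩ := exists_natural_equiv (BigSite.resEt KE S) (BigSite.resZar KE S)
    ((constantSheaf S.smallEtaleTopology AddCommGrpCat.{u + 1}).obj (AddCommGrpCat.of (ULift ℤ)))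
    ((constantSheaf (Opens.grothendieckTopology S) AddCommGrpCat.{u + 1}).obj (AddCommGrpCat.of (ULift ℤ)))
    GoodSheaf (etZarDegZero S) (fun f x => etZarDegZero_natural S f x) (fun a ha => by
      let T := presentation a
      have hT : T.ShortExact := { exact := ShortComplex.exact_of_g_is_cokernel _ (cokernelIsCokernel _) }
      refine ⟨goodSheaf_quotient flat_of_etale hT ha fun R a A _ _ _ => nerveExact_of_injective_sheaf a A _,
        shortExact_resEt hT ha, shortExact_resZar flat_of_etale hT ha, fun m => ?_, fun m => ?_⟩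
      · haveI : Injective ((BigSite.resEt KE S).obj T.X₂) := H13Desc.BigExact.injective_resEt KE (Injective.under a)
        exact subsingleton_of_forall_eq 0 fun x => Ext.eq_zero_of_injective x
      · haveI : Injective ((BigSite.resZar KE S).obj T.X₂) := injective_resZar S KE (Injective.under a)
        exact subsingleton_of_forall_eq 0 fun x => Ext.eq_zero_of_injective x) q
  obtain ⟨e₂, h₂⟩ := exists_natural_equiv (𝟭 (ZarUlift.AbS S)) (ZarUlift.lift S)
    ((constantSheaf (Opens.grothendieckTopology S) AddCommGrpCat.{u}).obj (AddCommGrpCat.of (ULift ℤ)))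
    ((constantSheaf (Opens.grothendieckTopology S) AddCommGrpCat.{u + 1}).obj (AddCommGrpCat.of (ULift ℤ)))
    (fun _ => True) (ZarUlift.degZero S) (fun f x => ZarUlift.degZero_natural S f x) (fun a _ => by
      let T := presentation a
      have hT : T.ShortExact := { exact := ShortComplex.exact_of_g_is_cokernel _ (cokernelIsCokernel _) }
      refine ⟨trivial, hT, ZarUlift.shortExact_lift S hT, fun m => ?_, fun m => ?_⟩
      · haveI : Injective T.X₂ := inferInstanceAs (Injective (Injective.under a))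
        exact subsingleton_of_forall_eq 0 fun x => Ext.eq_zero_of_injective (I := T.X₂) x
      · haveI : Injective T.X₂ := inferInstanceAs (Injective (Injective.under a))
        exact FlasqueBig.subsingleton_H m _ (ZarUlift.flasque_lift S (H10Coh.flasque_of_injective T.X₂))) q
  have hG := H23Ga.goodSheaf_Ga (P := @Etale) (S := S)
  let a₁ := ((Sheaf.functorH _ q).mapIso (resGaIso (S := S))).symm.addCommGroupIsoToAddEquiv
  let i₂ : (BigSite.resZar KE S).obj (CGrpSh2.Ga KE S) ≅
      (ZarUlift.lift S).obj (Coh.toAb (Coh.structureModule S)) :=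
    (EtZar.resZar S).mapIso (resGaIso (S := S)) ≪≫ resGaZarIso S
  let a₂ := ((Sheaf.functorH _ q).mapIso i₂).addCommGroupIsoToAddEquiv
  let E₁ := e₁ _ hG
  let E₂ := e₂ (Coh.toAb (Coh.structureModule S)) trivial
  refine ⟨a₁.trans (E₁.trans (a₂.trans E₂.symm)), fun r x => ?_⟩
  have n₁ : a₁ (Sheaf.H.map (gaScal S r) q x) = Sheaf.H.map ((BigSite.resEt KE S).map (gaMul S r)) q (a₁ x) := by
    have h : gaScal S r ≫ (resGaIso (S := S)).inv = (resGaIso (S := S)).inv ≫ (BigSite.resEt KE S).map (gaMul S r) := by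
      rw [Iso.eq_inv_comp, ← Category.assoc, Iso.comp_inv_eq, resEt_gaMul]
    exact hmap_comm h x
  have n₂ : ∀ z, a₂ (Sheaf.H.map ((BigSite.resZar KE S).map (gaMul S r)) q z) =
      Sheaf.H.map ((ZarUlift.lift S).map (Coh.smulAb (Coh.structureModule S) r)) q (a₂ z) := fun z => by
    have h : (BigSite.resZar KE S).map (gaMul S r) ≫ i₂.hom =
        i₂.hom ≫ (ZarUlift.lift S).map (Coh.smulAb (Coh.structureModule S) r) := by
      show (EtZar.resZar S).map ((BigSite.resEt KE S).map (gaMul S r)) ≫ (EtZar.resZar S).map (resGaIso (S := S)).hom ≫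
        (resGaZarIso S).hom = _
      rw [← Functor.map_comp_assoc, resEt_gaMul, Functor.map_comp, Category.assoc, resZar_gaScal]
      exact (Category.assoc _ _ _).symm
    exact hmap_comm h z
  refine (AddEquiv.symm_apply_eq E₂).2 ?_
  refine Eq.trans ?_ (h₂ trivial trivial (Coh.smulAb (Coh.structureModule S) r)
    (E₂.symm (a₂ (E₁ (a₁ x))))).symm
  show a₂ (E₁ (a₁ (Sheaf.H.map (gaScal S r) q x))) = _
  rw [n₁]
  refine (congrArg a₂ (h₁ hG hG (gaMul S r) (a₁ x))).trans ((n₂ (E₁ (a₁ x))).trans ?_)
  exact congrArg (Sheaf.H.map ((ZarUlift.lift S).map (Coh.smulAb (Coh.structureModule S) r)) q)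
    (E₂.apply_symm_apply _).symm

end Groth.Agent.H18AS
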