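import Groth.Agent.H9Et.AcyclicCompare
import Mathlib.CategoryTheory.Abelian.Injective.Basic

/-!
# Natural dimension shifting along injective presentations
-/

set_option autoImplicit false
set_option linter.style.haveILetI false
set_option backward.isDefEq.respectTransparency false
set_option backward.isDefEq.respectTransparency.types false

universe w w' v v' v'' u u' u''

open CategoryTheory CategoryTheory.Limits CategoryTheory.Abelian

noncomputable section

namespace Groth.Agent.H18AS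

open H9Et.AcyclicCompare

variable {A : Type u} [Category.{v} A] [Abelian A] [EnoughInjectives A]

/-- The chosen injective presentation. -/
abbrev presentation (a : A) : ShortComplex A :=
  ShortComplex.mk (Injective.ι a) (cokernel.π (Injective.ι a)) (cokernel.condition _)

/-- A morphism extends to the chosen presentations. -/
theorem exists_presentation_hom {a b : A} (f : a ⟶ b) :
    ∃ φ : presentation a ⟶ presentation b, φ.τ₁ = f := by
  let g := Injective.factorThru (f ≫ Injective.ι b) (Injective.ι a)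
  have hg : Injective.ι a ≫ g = f ≫ Injective.ι b := Injective.comp_factorThru _ _
  exact ⟨ShortComplex.homMk (S₁ := presentation a) (S₂ := presentation b) f g
    (cokernel.map _ _ f g hg) hg.symm (cokernel.π_desc _ _ _).symm, rfl⟩

section Shift

variable {C : Type u'} [Category.{v'} C] [Abelian C] [HasExt.{w} C] {T : ShortComplex C} (hT : T.ShortExact) (Z : C)

theorem shiftEquiv_mk (h : ∀ m : ℕ, Subsingleton (Ext.{w} Z T.X₂ (m + 1))) (n : ℕ) (y : Ext.{w} Z T.X₃ n) :
    shiftEquiv hT Z h n (QuotientAddGroup.mk y) = y.comp hT.extClass rfl := rfl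

end Shift

variable {B : Type u'} [Category.{v'} B] [Abelian B] [HasExt.{w} B]
  {B' : Type u''} [Category.{v''} B'] [Abelian B'] [HasExt.{w'} B']
  (Φ : A ⥤ B) [Φ.PreservesZeroMorphisms] (Φ' : A ⥤ B') [Φ'.PreservesZeroMorphisms] (Z : B) (Z' : B')

/-- Naturally equivalent higher cohomology. -/
theorem exists_natural_equiv (P : A → Prop)
    (e₀ : ∀ a : A, Ext.{w} Z (Φ.obj a) 0 ≃+ Ext.{w'} Z' (Φ'.obj a) 0)
    (nat : ∀ {a b : A} (f : a ⟶ b) (x : Ext.{w} Z (Φ.obj a) 0),
      e₀ b (x.comp (Ext.mk₀ (Φ.map f)) (add_zero 0)) = (e₀ a x).comp (Ext.mk₀ (Φ'.map f)) (add_zero 0))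
    (res : ∀ a, P a → P (presentation a).X₃ ∧ ((presentation a).map Φ).ShortExact ∧
      ((presentation a).map Φ').ShortExact ∧
      (∀ m : ℕ, Subsingleton (Ext.{w} Z (Φ.obj (presentation a).X₂) (m + 1))) ∧
      ∀ m : ℕ, Subsingleton (Ext.{w'} Z' (Φ'.obj (presentation a).X₂) (m + 1)))
    (n : ℕ) :
    ∃ e : ∀ a, P a → (Ext.{w} Z (Φ.obj a) n ≃+ Ext.{w'} Z' (Φ'.obj a) n),
      ∀ {a b : A} (ha : P a) (hb : P b) (f : a ⟶ b) (x : Ext.{w} Z (Φ.obj a) n),
        e b hb (x.comp (Ext.mk₀ (Φ.map f)) (add_zero n)) =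
          (e a ha x).comp (Ext.mk₀ (Φ'.map f)) (add_zero n) := by
  suffices h : ∃ e : ∀ a, P a → (Ext.{w} Z (Φ.obj a) n ≃+ Ext.{w'} Z' (Φ'.obj a) n),
      (∀ {a b : A} (ha : P a) (hb : P b) (f : a ⟶ b) (x : Ext.{w} Z (Φ.obj a) n),
        e b hb (x.comp (Ext.mk₀ (Φ.map f)) (add_zero n)) =
          (e a ha x).comp (Ext.mk₀ (Φ'.map f)) (add_zero n)) ∧
      ∀ a (ha : P a), (shiftRange ((presentation a).map Φ) Z n).map
        (e _ (res a ha).1).toAddMonoidHom = shiftRange ((presentation a).map Φ') Z' n by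
    obtain ⟨e, he, -⟩ := h
    exact ⟨e, he⟩
  induction n with
  | zero =>
    refine ⟨fun a _ => e₀ a, fun _ _ f x => nat f x, fun a ha => ?_⟩
    ext y
    constructor
    · rintro ⟨_, ⟨x, rfl⟩, rfl⟩
      exact ⟨e₀ _ x, (nat (presentation a).g x).symm⟩
    · rintro ⟨x, rfl⟩
      refine ⟨_, ⟨(e₀ _).symm x, rfl⟩, ?_⟩
      refine (nat (presentation a).g _).trans ?_
      rw [AddEquiv.apply_symm_apply]
      rfl
  | succ n ih =>
    obtain ⟨e, he, hrange⟩ := ih
    let e' : ∀ a, P a → (Ext.{w} Z (Φ.obj a) (n + 1) ≃+ Ext.{w'} Z' (Φ'.obj a) (n + 1)) := fun a ha =>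
      (shiftEquiv (res a ha).2.1 Z (res a ha).2.2.2.1 n).symm.trans
        ((QuotientAddGroup.congr _ _ (e _ (res a ha).1) (hrange a ha)).trans
          (shiftEquiv (res a ha).2.2.1 Z' (res a ha).2.2.2.2 n))
    have key : ∀ a (ha : P a) (y : Ext.{w} Z (Φ.obj (presentation a).X₃) n),
        e' a ha (y.comp (res a ha).2.1.extClass rfl) = (e _ (res a ha).1 y).comp (res a ha).2.2.1.extClass rfl := by
      intro a ha y
      show shiftEquiv (res a ha).2.2.1 Z' (res a ha).2.2.2.2 n (QuotientAddGroup.congr _ _ (e _ (res a ha).1) (hrange a ha)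
        ((shiftEquiv (res a ha).2.1 Z (res a ha).2.2.2.1 n).symm
          (shiftEquiv (res a ha).2.1 Z (res a ha).2.2.2.1 n (QuotientAddGroup.mk y)))) = _
      rw [AddEquiv.symm_apply_apply]
      rfl
    refine ⟨e', fun {a b} ha hb f x => ?_, fun a ha => ?_⟩
    · obtain ⟨φ, hφ⟩ := exists_presentation_hom f
      obtain ⟨y, rfl⟩ : ∃ y : Ext.{w} Z (Φ.obj (presentation a).X₃) n, y.comp (res a ha).2.1.extClass rfl = x :=
        Ext.covariant_sequence_exact₁ Z (res a ha).2.1 x (((res a ha).2.2.2.1 n).elim _ _) rfl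
      have h1 := (res a ha).2.1.extClass_naturality (res b hb).2.1 (Φ.mapShortComplex.map φ)
      have h2 := (res a ha).2.2.1.extClass_naturality (res b hb).2.2.1 (Φ'.mapShortComplex.map φ)
      have e1 : (Φ.mapShortComplex.map φ).τ₁ = Φ.map f := congrArg Φ.map hφ
      have e2 : (Φ'.mapShortComplex.map φ).τ₁ = Φ'.map f := congrArg Φ'.map hφ
      rw [e1] at h1
      rw [e2] at h2
      rw [Ext.comp_assoc_of_third_deg_zero, h1, ← Ext.comp_assoc_of_second_deg_zero]
      refine (key b hb _).trans ?_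
      rw [key a ha, Ext.comp_assoc_of_third_deg_zero, h2, ← Ext.comp_assoc_of_second_deg_zero]
      exact congrArg (fun q => q.comp (res b hb).2.2.1.extClass rfl) (he (res a ha).1 (res b hb).1 φ.τ₃ y)
    · rw [shiftRange_eq_bot (T := (presentation a).map Φ) Z (res a ha).2.2.2.1,
        shiftRange_eq_bot (T := (presentation a).map Φ') Z' (res a ha).2.2.2.2, AddSubgroup.map_bot]

end Groth.Agent.H18AS
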