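import Groth.Agent.H18AS.Main
import Groth.Agent.S0222
import Groth.Agent.S0469
import Groth.Agent.H05EGA4.EtCl.CdpCharP

/-!
# `cd_p ≤ dim` for finite type schemes over separably closed fields
-/

set_option autoImplicit false
set_option linter.style.haveILetI false
set_option linter.unusedSectionVars false
set_option backward.isDefEq.respectTransparency false
set_option backward.isDefEq.respectTransparency.types false

universe u

open CategoryTheory CategoryTheory.Limits AlgebraicGeometry Opposite Abelian TopologicalSpace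
open scoped Classical

namespace Groth.Agent.H18AS

open H05EGA4.EtCl
open scoped Groth.Agent.H18Et

variable (k : Type u) [Field k] [IsSepClosed k] (p : ℕ) [Fact p.Prime] [CharP k p]

/-- `H^q(T, ℤ/p) = 0` above the dimension. -/
theorem subsingleton_H_zmod_above (T : Scheme.{u}) (f : T ⟶ Spec (CommRingCat.of k)) [IsSeparated f]
    [LocallyOfFiniteType f] [QuasiCompact f] (n : ℕ) (hn : topologicalKrullDim T ≤ n) (q : ℕ) (hq : n < q) :
    Subsingleton (EtCoh.H T (EtCoh.const T (ZMod p)) q) := by
  by_cases hne : Nonempty T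
  swap
  · haveI : IsEmpty T := not_nonempty_iff.1 hne
    exact subsingleton_H_of_isEmpty _ q
  obtain ⟨d, hd, hdn⟩ := exists_dim_eq (α := T) n hn
  letI : T.Over (Spec (CommRingCat.of k)) := ⟨f⟩
  haveI : IsSeparated (T ↘ Spec (CommRingCat.of k)) := ‹IsSeparated f›
  haveI : LocallyOfFiniteType (T ↘ Spec (CommRingCat.of k)) := ‹LocallyOfFiniteType f›
  haveI : QuasiCompact (T ↘ Spec (CommRingCat.of k)) := ‹QuasiCompact f›
  have h0 := natCast_eq_zero p f
  haveI : Nontrivial Γ(T, ⊤) := by
    by_contra hc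
    rw [not_nontrivial_iff_subsingleton] at hc
    obtain ⟨x⟩ := hne
    exact not_subsingleton_iff_nontrivial.2 (T.evaluation ⊤ x trivial).hom.domain_nontrivial hc
  haveI : CharP Γ(T, ⊤) p := (CharP.charP_iff_prime_eq_zero (Fact.out : p.Prime)).2 h0
  haveI : CompactSpace T := QuasiCompact.compactSpace_of_compactSpace f
  haveI : QuasiSeparatedSpace T := quasiSeparatedSpace_of_quasiSeparated f
  haveI : SpectralSpace (T.toPresheafedSpace.carrier) := ({} : SpectralSpace T)
  have hvan : ∀ j, d < j → Subsingleton (Coh.HH T (Coh.structureModule T) j) := fun j hj =>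
    S0469.result d hd.le (Coh.toAb (Coh.structureModule T)) j hj
  haveI : IsLocallyNoetherian T := LocallyOfFiniteType.isLocallyNoetherian f
  have hfin : ∀ j, j + 1 = q → Module.Finite k (Coh.HH T (Coh.structureModule T) j) := fun j hj => by
    rcases (show d ≤ j by omega).eq_or_lt with rfl | hlt
    · exact S0222.result k T _ (H10Coh.isCoh_structureModule' T) d hd
    · haveI := hvan j hlt
      infer_instance
  haveI : Subsingleton (EtCoh.H T (EtCoh.Ga T) q) := by
    obtain ⟨e⟩ := H9Et.nonempty_H_Ga_equiv (S := T) q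
    haveI := hvan q (by omega)
    exact e.injective.subsingleton
  exact (injective_map_toGa_of_finite p h0 (k := k) q hfin).subsingleton

variable {X : Scheme.{u}} (f : X ⟶ Spec (CommRingCat.of k)) [IsSeparated f] [LocallyOfFiniteType f] [QuasiCompact f]

include f in
/-- Vanishing for an open dense subscheme. -/
theorem subsingleton_H_extZero_dense [AlgebraicGeometry.IsNoetherian X] (n : ℕ) (hn : topologicalKrullDim X ≤ n)
    (V : X.Opens) [Etale V.ι] [EtShriek.JCont V.ι] (hV : Dense (V : Set X)) (q : ℕ) (hq : n < q) :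
    Subsingleton (EtCoh.H X ((EtShriek.extZero V.ι).obj (EtCoh.const V.toScheme (ZMod p))) q) := by
  let I := Scheme.IdealSheafData.vanishingIdeal (X := X) ⟨(V : Set X)ᶜ, V.isOpen.isClosed_compl⟩
  let i := I.subschemeι
  have hr : Set.range i = (V : Set X)ᶜ := by
    show Set.range I.subschemeι = _
    rw [Scheme.IdealSheafData.range_subschemeι, Scheme.IdealSheafData.coe_support_vanishingIdeal]
    rfl
  have hU : (V : Set X) = (Set.range i.base)ᶜ := by
    show (V : Set X) = (Set.range i)ᶜ
    rw [hr, compl_compl]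
  obtain ⟨w, hS⟩ := Groth.Agent.S0654.result i V hU (EtCoh.const X (ZMod p))
  obtain ⟨r, rfl⟩ : ∃ r, q = r + 1 := ⟨q - 1, by omega⟩
  have hT := subsingleton_H_zmod_above k p X f n hn (r + 1) hq
  have hZ : Subsingleton (EtCoh.H X ((EtCoh.push i).obj ((EtCoh.pull i).obj (EtCoh.const X (ZMod p)))) r) := by
    obtain ⟨a⟩ := Groth.Agent.H15Site.IntDesc.nonempty_H_push i
      ((EtCoh.pull i).obj (EtCoh.const X (ZMod p))) r
    suffices hs : Subsingleton (EtCoh.H I.subscheme (EtCoh.const I.subscheme (ZMod p)) r) from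
      Function.Injective.subsingleton (β := EtCoh.H I.subscheme (EtCoh.const I.subscheme (ZMod p)) r)
        (((Sheaf.functorH _ r).mapIso (EtCore.pullConst i (ZMod p))).addCommGroupIsoToAddEquiv.injective.comp
          a.addCommGroupIsoToAddEquiv.injective)
    by_cases hne : Nonempty I.subscheme
    · obtain ⟨d, hd, hdn⟩ := dim_add_one_le_of_avoid i (V : Set X) V.isOpen hV hr.le n hn
      exact subsingleton_H_zmod_above k p _ (i ≫ f) d hd.le r (by omega)
    · haveI : IsEmpty I.subscheme := not_nonempty_iff.1 hne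
      exact subsingleton_H_of_isEmpty _ r
  have hA : Subsingleton (EtCoh.H X ((EtShriek.extZero V.ι).obj
      ((EtShriek.restrAlong V.ι).obj (EtCoh.const X (ZMod p)))) (r + 1)) := by
    refine subsingleton_of_forall_eq 0 fun x => ?_
    obtain ⟨y, hy⟩ := Ext.covariant_sequence_exact₁ _ hS x (hT.elim _ _) (rfl : r + 1 = r + 1)
    rw [← hy, hZ.elim y 0, Ext.zero_comp]
  let e : (EtShriek.restrAlong V.ι).obj (EtCoh.const X (ZMod p)) ≅ EtCoh.const V.toScheme (ZMod p) :=
    ((Groth.Agent.H18Et.EtaleRestrict.pullIso V.ι).app _).symm ≪≫ EtCore.pullConst V.ι (ZMod p)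
  exact Function.Injective.subsingleton (β := EtCoh.H X ((EtShriek.extZero V.ι).obj
      ((EtShriek.restrAlong V.ι).obj (EtCoh.const X (ZMod p)))) (r + 1))
    ((Sheaf.functorH _ (r + 1)).mapIso ((EtShriek.extZero V.ι).mapIso e)).addCommGroupIsoToAddEquiv.symm.injective

include f in
/-- The generators have no cohomology above the dimension. -/
theorem subsingleton_H_gen [AlgebraicGeometry.IsNoetherian X] (n : ℕ) (hn : topologicalKrullDim X ≤ n)
    (U : X.Etale) [IsAffine U.left] (q : ℕ) (hq : n < q) :
    Subsingleton (EtCoh.H X (EtPBC.extZeroConst U (ZMod p)) q) := by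
  haveI : Etale U.hom := U.prop
  haveI : Scheme.IsSeparated U.left := inferInstance
  let u : U.left ⟶ X := U.hom
  haveI : IsSeparated (u ≫ terminal.from X) := by
    rw [Subsingleton.elim (u ≫ terminal.from X) (terminal.from _)]
    exact Scheme.IsSeparated.isSeparated_terminal_from
  haveI : IsSeparated U.hom := IsSeparated.of_comp u (terminal.from X)
  haveI : QuasiCompact U.hom :=
    (quasiCompact_iff_forall_isAffineOpen).2 fun W hW => by
      haveI : IsLocallyNoetherian U.left :=
        haveI : IsLocallyNoetherian ((Functor.fromPUnit X).obj U.right) := inferInstanceAs (IsLocallyNoetherian X)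
        LocallyOfFiniteType.isLocallyNoetherian U.hom
      haveI : AlgebraicGeometry.IsNoetherian U.left := {}
      exact NoetherianSpace.isCompact (α := U.left) _
  haveI := Groth.Agent.H18Et.locallyQuasiFinite_of_etale U.hom
  obtain ⟨T₀, j₀, π₀, hj₀, hjqc, hπ₀, -, hfac⟩ := S1477.result (X := U.left) (S := X) U.hom
  haveI : IsFinite (j₀.imageι ≫ π₀) := inferInstance
  let T := j₀.image
  let π : T ⟶ X := j₀.imageι ≫ π₀
  let j : U.left ⟶ T := j₀.toImage
  haveI : IsLocallyNoetherian T := LocallyOfFiniteType.isLocallyNoetherian π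
  haveI : CompactSpace T := QuasiCompact.compactSpace_of_compactSpace π
  haveI : AlgebraicGeometry.IsNoetherian T := {}
  have hjπ : j ≫ π = U.hom := by
    show j₀.toImage ≫ j₀.imageι ≫ π₀ = _
    rw [Scheme.Hom.toImage_imageι_assoc, hfac]
  haveI : IsOpenImmersion j := inferInstanceAs (IsOpenImmersion j₀.toImage)
  let V : T.Opens := j.opensRange
  have hV : Dense (V : Set T) := by
    rw [Scheme.Hom.coe_opensRange]
    exact j₀.toImage.denseRange
  let e : V.toScheme ≅ U.left := j.isoOpensRange.symm
  have hVj : e.hom ≫ j = V.ι := by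
    show j.isoOpensRange.inv ≫ j = _
    exact Scheme.Hom.isoOpensRange_inv_comp j
  have hf : e.hom ≫ U.hom = V.ι ≫ π := by
    rw [← hjπ, ← Category.assoc, hVj]
  haveI : Etale (V.ι ≫ π) := by
    rw [← hf]
    exact MorphismProperty.comp_mem _ e.hom U.hom inferInstance inferInstance
  haveI : IsSeparated (V.ι ≫ π) := inferInstance
  haveI := Groth.Agent.H18Et.jCont (V.ι ≫ π)
  haveI := Groth.Agent.H18Et.jCont V.ι
  haveI := subsingleton_H_extZero_dense k p (π ≫ f) n
    ((Groth.Agent.H12AlgSp.topologicalKrullDim_le_of_lqf π).trans hn) V hV q hq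
  let c := EtCoh.const V.toScheme (ZMod p)
  let E : EtPBC.extZeroConst U (ZMod p) ≅ (EtCoh.push π).obj ((EtShriek.extZero V.ι).obj c) :=
    extZeroConstIso U (ZMod p) e (V.ι ≫ π) hf ≪≫
      (H15Site.Shriek.extZeroIso (V.ι ≫ π)).app c ≪≫
      (H15Site.Shriek.lowerShriekCompIso V.ι π).symm.app c ≪≫
      (EtShriek.lowerShriek π).mapIso ((H15Site.Shriek.extZeroIso V.ι).symm.app c) ≪≫
      (H15Site.Shriek.shriekPushIso π).app _
  obtain ⟨a⟩ := Groth.Agent.H15Site.IntDesc.nonempty_H_push π ((EtShriek.extZero V.ι).obj c) q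
  exact Function.Injective.subsingleton (β := EtCoh.H T ((EtShriek.extZero V.ι).obj c) q)
    (a.addCommGroupIsoToAddEquiv.injective.comp ((Sheaf.functorH _ q).mapIso E).addCommGroupIsoToAddEquiv.injective)

include f in
/-- **`cd_p ≤ dim` over a separably closed field of characteristic `p`.** -/
theorem cohDimLEAt_sepClosed (n : ℕ) (hn : topologicalKrullDim X ≤ n) : Dix.CohDimLEAt X p n := by
  haveI : IsLocallyNoetherian X := LocallyOfFiniteType.isLocallyNoetherian f
  haveI : CompactSpace X := QuasiCompact.compactSpace_of_compactSpace f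
  haveI : AlgebraicGeometry.IsNoetherian X := {}
  have hp := natCast_eq_zero p f
  suffices h : ∀ (j q : ℕ), n < q → n + 2 ≤ q + j → ∀ F : EtCoh.Ab X, Dix.IsPrimaryTorsion p F →
      Subsingleton (EtCoh.H X F q) from fun F hF q hq => h (n + 2) q hq (by omega) F hF
  intro j
  induction j with
  | zero => exact fun q _ hq F hF => cohDimLEAt_charP hp n hn F hF q (by omega)
  | succ j ih =>
    intro q hq hqj F hF
    have hIH : ∀ G : EtCoh.Ab X, Dix.IsPrimaryTorsion p G → Subsingleton (EtCoh.H X G (q + 1)) :=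
      ih (q + 1) (by omega) (by omega)
    have h1 : ∀ G : EtCoh.Ab X, EtCoh.KilledBy p G → Subsingleton (EtCoh.H X G q) := fun G hG =>
      subsingleton_H_of_gens {p} (fun m hm => ⟨1, by rw [pow_one]; exact hm⟩) G q
        (fun V s v => ⟨V, 𝟙 V, v, p, rfl, rfl, hG _ _⟩)
        (fun m hm U hU => by
          rw [show m = p from hm]
          exact subsingleton_H_gen k p f n hn U q hq) hIH
    refine subsingleton_H_of_gens (Set.range (p ^ ·)) (fun m ⟨c, hc⟩ => ⟨c, hc.symm⟩) F q
      (fun V s v => ?_) (fun m hm U _ => ?_) hIH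
    · obtain ⟨W, g, ⟨w, hw⟩, c, hc⟩ := hF V s v
      exact ⟨W, g, w, p ^ c, hw, ⟨c, rfl⟩, hc⟩
    · obtain ⟨c, rfl⟩ := hm
      exact subsingleton_H_killed q h1 c _
        ((killedBy_iff _ _).2 (H18Et.Cons.nsmul_id_extZeroConst _ _))

end Groth.Agent.H18AS
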